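import Mathlib.Data.Matrix.Mul
import Mathlib.Algebra.CharP.Lemmas
import Mathlib.LinearAlgebra.Matrix.ToLin

/-!
# Complexes of finite free modules given by matrices, and their tensor products with modules

`act M v` is the action of a matrix on a tuple of elements of a module.
-/

universe u v

open Matrix

namespace Groth.Agent.Lib.HomConj

variable {B : Type u} [CommRing B] {I J K : Type*} [Fintype J] [Fintype K]
  {X : Type v} [AddCommGroup X] [Module B X]

/-- A matrix acting on tuples of a module. -/
def act (M : Matrix I J B) : (J → X) →ₗ[B] (I → X) where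
  toFun v i := ∑ j, M i j • v j
  map_add' v w := funext fun i => by simp [smul_add, Finset.sum_add_distrib]
  map_smul' a v := funext fun i => by simp [Finset.smul_sum, smul_comm a]

theorem act_apply (M : Matrix I J B) (v : J → X) (i : I) : act M v i = ∑ j, M i j • v j := rfl

theorem act_mul (M : Matrix I J B) (N : Matrix J K B) (v : K → X) :
    act (M * N) v = act M (act N v) := by
  ext i
  simp only [act_apply, Matrix.mul_apply, Finset.sum_smul, Finset.smul_sum, smul_smul]
  exact Finset.sum_comm

theorem act_add (M N : Matrix I J B) (v : J → X) : act (M + N) v = act M v + act N v := by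
  ext i
  simp [act_apply, add_smul, Finset.sum_add_distrib]

theorem act_smul_one [Fintype I] [DecidableEq I] (a : B) (v : I → X) :
    act (a • (1 : Matrix I I B)) v = a • v := by
  ext i
  simp [act_apply, Matrix.one_apply]

theorem act_zero (v : J → X) : act (0 : Matrix I J B) v = 0 := by
  ext i
  simp [act_apply]

theorem act_comp {Y : Type*} [AddCommGroup Y] [Module B Y] (g : X →ₗ[B] Y) (M : Matrix I J B)
    (v : J → X) : (fun i => g (act M v i)) = act M (fun j => g (v j)) := by
  ext i
  simp [act_apply]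

theorem act_eq_mulVec (M : Matrix I J B) (v : J → B) : act M v = M *ᵥ v := by
  ext i
  simp [act_apply, Matrix.mulVec, dotProduct]

/-- A chain complex of finite free modules, given by matrices. -/
structure FCx (B : Type u) [CommRing B] where
  /-- the ranks -/
  n : ℕ → ℕ
  /-- the differentials -/
  d : (i : ℕ) → Matrix (Fin (n i)) (Fin (n (i + 1))) B
  d_d : ∀ i, d i * d (i + 1) = 0

namespace FCx

variable (F : FCx B)

/-- Cycles, with values in a module. -/
def Cyc : (i : ℕ) → (Fin (F.n i) → X) → Prop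
  | 0, _ => True
  | i + 1, v => act (F.d i) v = 0

theorem cyc_act : ∀ (i : ℕ) (w : Fin (F.n (i + 1)) → X), F.Cyc i (act (F.d i) w)
  | 0, _ => trivial
  | i + 1, w => by show act _ (act _ w) = 0; rw [← act_mul, F.d_d, act_zero]

theorem cyc_smul (a : B) : ∀ {i : ℕ} {v : Fin (F.n i) → X}, F.Cyc i v → F.Cyc i (a • v)
  | 0, _, _ => trivial
  | i + 1, v, h => by show act _ _ = 0; rw [map_smul, show act (F.d i) v = 0 from h, smul_zero]

theorem cyc_sub : ∀ {i : ℕ} {v w : Fin (F.n i) → X}, F.Cyc i v → F.Cyc i w → F.Cyc i (v - w)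
  | 0, _, _, _, _ => trivial
  | i + 1, v, w, hv, hw => by
    show act _ _ = 0
    rw [map_sub, show act (F.d i) v = 0 from hv, show act (F.d i) w = 0 from hw, sub_zero]

/-- `a` kills the homology in degree `i`, with values in `X`. -/
def Kills (X : Type v) [AddCommGroup X] [Module B X] (a : B) (i : ℕ) : Prop :=
  ∀ v : Fin (F.n i) → X, F.Cyc i v → ∃ w, act (F.d i) w = a • v

/-- A homotopy between multiplication by `a` and zero in degrees below `m`. -/
structure Htpy (a : B) (m : ℕ) where
  /-- the homotopy -/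
  h : (i : ℕ) → Matrix (Fin (F.n (i + 1))) (Fin (F.n i)) B
  zero : 0 < m → F.d 0 * h 0 = a • 1
  succ : ∀ i, i + 1 < m → h i * F.d i + F.d (i + 1) * h (i + 1) = a • 1

/-- Multiplication by `a` is null-homotopic. -/
def NH (a : B) : Prop := ∀ m, Nonempty (F.Htpy a m)

/-- Some power of `f` is null-homotopic. -/
def HN (f : B) : Prop := ∃ N : ℕ, F.NH (f ^ N)

theorem kills_of_htpy {a : B} {m i : ℕ} (h : F.Htpy a m) (hi : i < m) : F.Kills X a i := by
  intro v hv
  refine ⟨act (h.h i) v, ?_⟩
  rw [← act_mul]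
  cases i with
  | zero => rw [h.zero hi, act_smul_one]
  | succ i =>
    have hv' : act (F.d i) v = 0 := hv
    rw [eq_sub_of_add_eq' (h.succ i hi), sub_eq_add_neg, act_add, act_smul_one,
      ← neg_one_smul B (h.h i * F.d i), ← Matrix.smul_mul, act_mul, hv', map_zero, add_zero]

theorem kills_one_of_hn {f : B} (hf : F.HN f) (hb : Function.Bijective fun x : X => f • x) (i : ℕ) :
    F.Kills X (1 : B) i := by
  intro v hv
  obtain ⟨N, hN⟩ := hf
  obtain ⟨h⟩ := hN (i + 1)
  obtain ⟨w, hw⟩ := F.kills_of_htpy h (Nat.lt_succ_self i) v hv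
  have hb' : Function.Bijective fun x : X => f ^ N • x := by
    clear hw hN h
    induction N with
    | zero => simp only [pow_zero, one_smul]; exact Function.bijective_id
    | succ k ih => simp only [pow_succ, mul_smul]; exact ih.comp hb
  choose w' hw' using fun j => hb'.2 (w j)
  refine ⟨w', ?_⟩
  rw [one_smul]
  funext j
  refine hb'.1 ?_
  show f ^ N • act (F.d i) w' j = f ^ N • v j
  rw [← Pi.smul_apply, ← map_smul, show f ^ N • w' = w from funext hw', hw]
  rfl

section Map

variable {C : Type*} [CommRing C] (φ : B →+* C)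

/-- Base change. -/
def map : FCx C where
  n := F.n
  d i := (F.d i).map φ
  d_d i := by rw [← Matrix.map_mul, F.d_d, Matrix.map_zero _ (map_zero φ)]

theorem map_d (i : ℕ) : (F.map φ).d i = (F.d i).map φ := rfl

theorem map_smul_one {n : ℕ} (a : B) :
    (a • (1 : Matrix (Fin n) (Fin n) B)).map φ = φ a • 1 := by
  ext i j
  by_cases h : i = j <;> simp [h]

/-- Base change of a homotopy. -/
def Htpy.map {a : B} {m : ℕ} (h : F.Htpy a m) : (F.map φ).Htpy (φ a) m where
  h i := (h.h i).map φ
  zero hm := by
    have e := congrArg (fun M => M.map φ) (h.zero hm)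
    simp only [Matrix.map_mul, map_smul_one] at e
    exact e
  succ i hi := by
    have e := congrArg (fun M => M.map φ) (h.succ i hi)
    simp only [Matrix.map_add _ (map_add φ), Matrix.map_mul, map_smul_one] at e
    exact e

theorem NH.map {a : B} (h : F.NH a) : (F.map φ).NH (φ a) := fun m => (h m).map (fun h => h.map F φ)

theorem HN.map {f : B} (h : F.HN f) : (F.map φ).HN (φ f) := by
  obtain ⟨N, hN⟩ := h
  exact ⟨N, by rw [← map_pow]; exact hN.map F φ⟩

theorem act_map {J I : Type*} [Fintype I] [Fintype J] (M : Matrix I J B) (v : J → B) :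
    act (M.map φ) (φ ∘ v) = φ ∘ act M v := by
  ext i
  simp [act_apply]

theorem cyc_map : ∀ {i : ℕ} {v : Fin (F.n i) → B}, F.Cyc i v → (F.map φ).Cyc i (φ ∘ v)
  | 0, _, _ => trivial
  | i + 1, v, h => by
    refine (act_map φ (F.d i) v).trans ?_
    rw [show act (F.d i) v = 0 from h]
    funext j
    exact map_zero φ

end Map

/-- Make `a` a multiple. -/
def Htpy.smul {a : B} {m : ℕ} (h : F.Htpy a m) (b : B) : F.Htpy (b * a) m where
  h i := b • h.h i
  zero hm := by rw [Matrix.mul_smul, h.zero hm, smul_smul]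
  succ i hi := by rw [Matrix.smul_mul, Matrix.mul_smul, ← smul_add, h.succ i hi, smul_smul]

theorem HN.mul {f : B} (h : F.HN f) (g : B) : F.HN (g * f) := by
  obtain ⟨N, hN⟩ := h
  exact ⟨N, fun m => (hN m).map fun h => mul_pow g f N ▸ h.smul F (g ^ N)⟩

theorem hn_of_pow {f : B} {k : ℕ} (h : F.HN (f ^ k)) : F.HN f := by
  obtain ⟨N, hN⟩ := h
  exact ⟨k * N, by rw [pow_mul]; exact hN⟩

theorem exists_lift {a : B} {m : ℕ} (hk : F.Kills B a m) {E : Matrix (Fin (F.n m)) (Fin (F.n m)) B}
    (hE : ∀ q, F.Cyc m fun p => E p q) : ∃ M, F.d m * M = a • E := by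
  choose w hw using fun q => hk _ (hE q)
  refine ⟨Matrix.of fun i j => w j i, ?_⟩
  ext p q
  have := congrFun (hw q) p
  simpa [act_apply, Matrix.mul_apply] using this

/-- Lifting: if `a` kills the homology in degrees below `m`, a power of `a` is null-homotopic there. -/
theorem exists_htpy {a : B} : ∀ m : ℕ, (∀ i < m, F.Kills B a i) → Nonempty (F.Htpy (a ^ m) m)
  | 0, _ => ⟨⟨fun _ => 0, fun h => absurd h (lt_irrefl 0), fun i hi => absurd hi (by omega)⟩⟩
  | 1, hk => by
    obtain ⟨M, hM⟩ := F.exists_lift (hk 0 one_pos) (E := 1) fun _ => trivial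
    refine ⟨⟨fun i => match i with | 0 => M | _ + 1 => 0, fun _ => by rw [pow_one]; exact hM,
      fun i hi => absurd hi (by omega)⟩⟩
  | k + 2, hk => by
    obtain ⟨h⟩ := exists_htpy (k + 1) fun i hi => hk i (by omega)
    have hz : F.d k * (a ^ (k + 1) • 1 - h.h k * F.d k) = 0 := by
      rw [Matrix.mul_sub, ← Matrix.mul_assoc, Matrix.mul_smul, Matrix.mul_one]
      cases k with
      | zero => rw [h.zero (by omega), Matrix.smul_mul, Matrix.one_mul, sub_self]
      | succ l =>
        rw [eq_sub_of_add_eq' (h.succ l (by omega)), Matrix.sub_mul, Matrix.smul_mul, Matrix.one_mul,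
          Matrix.mul_assoc, F.d_d, Matrix.mul_zero, sub_zero, sub_self]
    obtain ⟨M, hM⟩ := F.exists_lift (hk (k + 1) (by omega))
      (E := a ^ (k + 1) • 1 - h.h k * F.d k) fun q => funext fun i => congrFun (congrFun hz i) q
    refine ⟨⟨fun i => if e : i = k + 1 then e ▸ M else a • h.h i, fun _ => ?_, fun i hi => ?_⟩⟩
    · rw [dif_neg (by omega), Matrix.mul_smul, h.zero (by omega), smul_smul, ← pow_succ']
    · rcases Nat.lt_or_ge i k with hlt | hge
      · rw [dif_neg (by omega), dif_neg (by omega), Matrix.smul_mul, Matrix.mul_smul, ← smul_add,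
          h.succ i (by omega), smul_smul, ← pow_succ']
      · obtain rfl : k = i := by omega
        rw [dif_neg (by omega), dif_pos rfl, Matrix.smul_mul]
        dsimp only
        rw [hM, smul_sub, smul_smul, ← pow_succ', add_sub_cancel]

theorem nh_of_kills {a : B} {k : ℕ} (hk : ∀ i, k < i → F.n i = 0) (h : ∀ i ≤ k, F.Kills B a i) :
    F.NH (a ^ (k + 1)) := by
  intro m
  obtain ⟨s⟩ := F.exists_htpy (k + 1) fun i hi => h i (by omega)
  refine ⟨⟨s.h, fun _ => s.zero (Nat.succ_pos k), fun i _ => ?_⟩⟩
  by_cases hi : i + 1 < k + 1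
  · exact s.succ i hi
  · ext p
    exact Fin.elim0 (Fin.cast (hk (i + 1) (by omega)) p)

/-- The minimality of a differential. -/
def MinimalAt (J : Ideal B) (i : ℕ) : Prop := ∀ p q, F.d i p q ∈ J

end FCx

end Groth.Agent.Lib.HomConj
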